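import Cfsg.Agent.H70.S3530.ReeExt
import Cfsg.Agent.H415.CopReeRow

/-!
# S3530: automorphisms of the small Ree groups (helper872, task 2811)

* `IsRee.exists_nine`;
* `IsRee.aut`: an automorphism with an inner `r`-th power is a conjugation times a field automorphism `τ` with `τ ^ r = 1`;
  `τ` fixes elements of orders 2, 3, 7, 9 (those over `F_3`).
-/

set_option autoImplicit false
set_option linter.unusedSectionVars false

namespace Cfsg.Agent.H872.ReeAut

open Subgroup Cfsg.Lie Cfsg.Agent.LieRecognition Cfsg.Agent.LieRecognition.ReeSplit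
  Cfsg.Agent.ChevalleyStructure.Ree Cfsg.Agent.ChevalleyStructure.Ree.Normal
  Cfsg.Agent.LieRecognition.ReeSylowThree Cfsg.Agent.LieRecognition.ReeAbs Cfsg.Agent.H415.CopReeRow
  Cfsg.Agent.H71.FldAut

/-! ### The field -/

section Field

variable {K : Type*} [Field K]

/-- every automorphism of a finite field of characteristic 3 is a power of the Frobenius -/
theorem exists_frob [Finite K] [CharP K 3] (τ : K ≃+* K) : ∃ j : ℕ, ∀ x : K, τ x = x ^ 3 ^ j := by
  have hp : Fact (Nat.Prime 3) := ⟨Nat.prime_three⟩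
  let _ : Algebra (ZMod 3) K := ZMod.algebra K 3
  have hcomm : (τ : K →+* K).comp (algebraMap (ZMod 3) K) = algebraMap (ZMod 3) K := Subsingleton.elim _ _
  let τ' : K →ₐ[ZMod 3] K := { (τ : K →+* K) with commutes' := fun r => RingHom.congr_fun hcomm r }
  have : Fintype K := Fintype.ofFinite K
  obtain ⟨j, hj⟩ := (FiniteField.bijective_frobeniusAlgHom_pow (ZMod 3) K).2 τ'
  refine ⟨j, fun x => ?_⟩
  have h1 : ∀ (n : ℕ) (y : K), ((FiniteField.frobeniusAlgHom (ZMod 3) K) ^ n) y = y ^ 3 ^ n := by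
    intro n y
    induction n generalizing y with
    | zero => simp
    | succ n ih =>
      rw [pow_succ, AlgHom.mul_apply, ih, FiniteField.frobeniusAlgHom_apply, ZMod.card, ← pow_mul, mul_comm, ← pow_succ]
  have h2 : τ' x = τ x := rfl
  rw [← h2, ← hj]
  exact h1 _ x

/-- a nonzero trace -/
theorem exists_trace {σ : K ≃+* K} (h3 : (3 : K) = 0) (h1 : σ ≠ 1) : ∃ θ : K, θ + σ θ + σ (σ θ) ≠ 0 := by
  by_contra hcon
  push Not at hcon
  apply h1
  ext a
  have e1 := hcon a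
  have e2 := hcon (a * a)
  rw [map_mul, map_mul] at e2
  have e3 : σ (σ a) = -a - σ a := by linear_combination e1
  rw [e3] at e2
  have e4 : (a - σ a) * (a - σ a) = 0 := by linear_combination (-1 : K) * e2 + (a * a + σ a * σ a) * h3
  have e5 := mul_self_eq_zero.1 e4
  rw [RingAut.one_apply]
  exact (sub_eq_zero.1 e5).symm

/-- the elements of order 13 of `F_27` -/
theorem exists_unit [Fintype K] {m : ℕ} (hK : Fintype.card K = 3 ^ (2 * m + 1)) (h3 : 3 ∣ 2 * m + 1) {r : ℕ}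
    (hr : r.Prime) (hr3 : r ≠ 3) {τ : K ≃+* K} (hτ : τ ^ r = 1) : ∃ a : Kˣ, orderOf a = 13 ∧ τ (a : K) = a := by
  have hch : CharP K 3 := charP_three hK
  have h13 : Fact (Nat.Prime 13) := ⟨by norm_num⟩
  obtain ⟨a, ha⟩ := exists_prime_orderOf_dvd_card' (G := Kˣ) 13 (by
    rw [Nat.card_units, Nat.card_eq_fintype_card, hK]
    obtain ⟨k, hk⟩ := h3
    rw [hk, pow_mul]
    exact (show 13 ∣ 3 ^ 3 - 1 by norm_num).trans (Nat.sub_one_dvd_pow_sub_one _ _))
  refine ⟨a, ha, ?_⟩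
  obtain ⟨j, hj⟩ := exists_frob τ
  have h27 : (a : K) ^ 27 = a := by
    have h1 : a ^ 13 = 1 := by rw [← ha, pow_orderOf_eq_one]
    have h2 : a ^ 27 = a := by
      rw [show 27 = 13 * 2 + 1 from rfl, pow_succ, pow_mul, h1, one_pow, one_mul]
    rw [← Units.val_pow_eq_pow_val, h2]
  -- `τ ^ 3` fixes `a`
  have hpow : ∀ (i : ℕ), (τ ^ i) (a : K) = (a : K) ^ 3 ^ (j * i) := by
    intro i
    induction i with
    | zero => simp
    | succ i ih =>
      rw [pow_succ', RingAut.mul_apply, ih, map_pow, hj, ← pow_mul, ← pow_add]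
      congr 2
      ring
  have hthree : (τ ^ 3) (a : K) = a := by
    rw [hpow, mul_comm j 3, pow_mul]
    have h1 : ∀ i : ℕ, (a : K) ^ (3 ^ 3) ^ i = a := by
      intro i
      induction i with
      | zero => simp
      | succ i ih =>
        rw [pow_succ, pow_mul, ih]
        exact h27
    exact h1 j
  have hrr : (τ ^ r) (a : K) = a := by rw [hτ]; rfl
  -- the stabiliser of `a`
  let S : Subgroup (K ≃+* K) := MulAction.stabilizer (K ≃+* K) (a : K)
  have h1 : τ ^ 3 ∈ S := MulAction.mem_stabilizer_iff.2 hthree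
  have h2 : τ ^ r ∈ S := MulAction.mem_stabilizer_iff.2 hrr
  have hco : Nat.gcd 3 r = 1 := (Nat.coprime_primes Nat.prime_three hr).2 hr3.symm
  have h4 : τ ∈ S := by
    have h5 : τ = (τ ^ 3) ^ (Nat.gcdA 3 r) * (τ ^ r) ^ (Nat.gcdB 3 r) := by
      rw [← zpow_natCast τ 3, ← zpow_natCast τ r, ← zpow_mul, ← zpow_mul, ← zpow_add, ← Nat.gcd_eq_gcd_ab, hco]
      simp
    rw [h5]
    exact mul_mem (zpow_mem h1 _) (zpow_mem h2 _)
  exact MulAction.mem_stabilizer_iff.1 h4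

end Field

/-! ### The group -/

section Group

variable {K : Type*} [Field K] [Fintype K] {m : ℕ}

theorem orderOf_U (hK : Fintype.card K = 3 ^ (2 * m + 1)) {G : Type*} [Group G] {U : K → K → K → G} {h : Kˣ → G}
    {n : G} (D : ReeAbs.Data m U h n) {t : K} (ht : t ≠ 0) (u v : K) : orderOf (U t u v) = 9 := by
  have h1 := U_cube D hK t u v
  rw [show 9 = 3 ^ (1 + 1) by norm_num]
  have : Fact (Nat.Prime 3) := ⟨Nat.prime_three⟩
  apply orderOf_eq_prime_pow
  · rw [pow_one, h1, ← D.U_zero]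
    intro he
    have h2 := (U_injective D he).2.2
    rw [neg_eq_zero, mul_eq_zero] at h2
    rcases h2 with h2 | h2
    · exact ht (pow_eq_zero_iff (by norm_num) |>.1 h2)
    · exact ht (pow_eq_zero_iff (by positivity) |>.1 h2)
  · rw [pow_add, pow_mul, pow_one, h1, U_zero_zero_cube D hK]

/-- **Elements over `F_3`** -/
theorem exists_fixed (hK : Fintype.card K = 3 ^ (2 * m + 1)) {n : ℕ} (hn : n ∈ ({2, 3, 7, 9} : Finset ℕ)) :
    ∃ x : ↥(twistedG2 K (3 ^ m)), orderOf x = n ∧ ∀ τ : K ≃+* K, S2127.fld τ (3 ^ m) x = x := by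
  have hE : Fintype.card (ZMod 3) = 3 ^ (2 * 0 + 1) := by rw [ZMod.card]; norm_num
  obtain ⟨θ₀, c₀⟩ := exists_ctx hE
  have hch : CharP K 3 := charP_three hK
  let f : ZMod 3 →+* K := ZMod.castHom dvd_rfl K
  have hp3 : Fact (Nat.Prime 3) := ⟨Nat.prime_three⟩
  have hpow : ∀ x : ZMod 3, x ^ 3 ^ m = x ^ 3 ^ 0 := by
    intro x
    rw [pow_zero, pow_one]
    exact ZMod.pow_card_pow x
  have D₀ := Data.data c₀
  have hinj := emb_injective f hpow
  have hfin₀ : Finite ↥(twistedG2 (ZMod 3) (3 ^ 0)) := LieRecognition.ReeSylowThree.finite D₀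
  have hcard : Nat.card ↥(twistedG2 (ZMod 3) (3 ^ 0)) = 1512 := by
    rw [LieRecognition.ReeSylowThree.card_eq D₀, hE]
    norm_num
  obtain ⟨x, hx⟩ : ∃ x : ↥(twistedG2 (ZMod 3) (3 ^ 0)), orderOf x = n := by
    simp only [Finset.mem_insert, Finset.mem_singleton] at hn
    rcases hn with rfl | rfl | rfl | rfl
    · have : Fact (Nat.Prime 2) := ⟨Nat.prime_two⟩
      exact exists_prime_orderOf_dvd_card' 2 (by rw [hcard]; norm_num)
    · exact exists_prime_orderOf_dvd_card' 3 (by rw [hcard]; norm_num)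
    · have : Fact (Nat.Prime 7) := ⟨by norm_num⟩
      exact exists_prime_orderOf_dvd_card' 7 (by rw [hcard]; norm_num)
    · exact ⟨_, orderOf_U_one D₀ hE⟩
  refine ⟨emb f hpow x, by rw [orderOf_injective _ hinj, hx], fun τ => ?_⟩
  apply Subtype.ext
  apply Units.ext
  rw [coe_fldG]
  have h1 : ((emb f hpow x : GL chevG2.Idx K) : Matrix chevG2.Idx chevG2.Idx K) =
      ((x : GL chevG2.Idx (ZMod 3)) : Matrix chevG2.Idx chevG2.Idx (ZMod 3)).map f := rfl
  rw [h1, Matrix.map_map]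
  have h2 : (τ : K →+* K).comp f = f := Subsingleton.elim _ _
  ext i j
  exact RingHom.congr_fun h2 _

/-- a field automorphism which is inner is trivial -/
theorem eq_one_of_inner (hK : Fintype.card K = 3 ^ (2 * m + 1)) {τ : K ≃+* K}
    {g : ↥(twistedG2 K (3 ^ m))} (h : S2127.fld τ (3 ^ m) = MulAut.conj g) : τ = 1 := by
  obtain ⟨θ, c⟩ := exists_ctx hK
  have F := reeFld c
  have D := Data.data c
  have h1 := F.mem τ
  rw [h, H71.ReeOut.conj_mem_iff] at h1
  obtain ⟨a, rfl⟩ := h1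
  have h2 := F.onU τ 1 0 0
  rw [h, MulAut.conj_apply, D.h_U, mul_inv_cancel_right, map_one, map_zero] at h2
  have h3 := (U_injective D h2).1
  rw [mul_one, ← Units.val_pow_eq_pow_val] at h3
  have h4 := ReeThree.one_of_pow_a hK a (Units.ext h3)
  rw [h4, D.h_one, map_one] at h
  ext t
  have h5 := F.onU τ t 0 0
  rw [h, MulAut.one_apply] at h5
  rw [RingAut.one_apply]
  exact (U_injective D h5).1.symm

theorem fld_one : S2127.fld (1 : K ≃+* K) (3 ^ m) = 1 := by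
  have h := fldG_mul (1 : K ≃+* K) 1 (3 ^ m)
  rw [mul_one] at h
  exact mul_eq_left.1 h.symm

theorem fld_pow (τ : K ≃+* K) (i : ℕ) : S2127.fld (τ ^ i) (3 ^ m) = S2127.fld τ (3 ^ m) ^ i := by
  induction i with
  | zero => rw [pow_zero, pow_zero, fld_one]
  | succ i ih => rw [pow_succ, pow_succ, fldG_mul, ih]

/-- the statement for the model -/
theorem core (hm : 1 ≤ m) (hK : Fintype.card K = 3 ^ (2 * m + 1)) (α : MulAut ↥(twistedG2 K (3 ^ m))) {r : ℕ}
    (hr : r.Prime) (hα : ∃ g, α ^ r = MulAut.conj g) :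
    ∃ (g : ↥(twistedG2 K (3 ^ m))) (τ : MulAut ↥(twistedG2 K (3 ^ m))), α = MulAut.conj g * τ ∧ τ ^ r = 1 ∧
      (∀ n ∈ ({2, 3, 7, 9} : Finset ℕ), ∃ x : ↥(twistedG2 K (3 ^ m)), orderOf x = n ∧ τ x = x) ∧
      (3 ∣ 2 * m + 1 → r ≠ 3 → ∃ x : ↥(twistedG2 K (3 ^ m)), orderOf x = 13 ∧ τ x = x) ∧
      (r = 3 → τ ≠ 1 → ∃ x : ↥(twistedG2 K (3 ^ m)), orderOf (x * τ x * τ (τ x)) = 9) := by
  obtain ⟨θ, c⟩ := exists_ctx hK
  have D := Data.data c
  have F := reeFld c
  obtain ⟨g, τ, rfl⟩ := ree_aut hm hK α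
  -- `τ ^ r = 1`
  have hτ : τ ^ r = 1 := by
    obtain ⟨g', hg'⟩ := hα
    have h1 : ∀ i : ℕ, ∃ k, (MulAut.conj g * S2127.fld τ (3 ^ m)) ^ i = MulAut.conj k * S2127.fld τ (3 ^ m) ^ i := by
      intro i
      induction i with
      | zero => exact ⟨1, by rw [pow_zero, pow_zero, map_one, one_mul]⟩
      | succ i ih =>
        obtain ⟨k, hk⟩ := ih
        refine ⟨k * (S2127.fld τ (3 ^ m) ^ i) g, ?_⟩
        rw [pow_succ, hk, pow_succ]
        ext x : 1
        simp only [MulAut.mul_apply, MulAut.conj_apply, map_mul, map_inv]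
    obtain ⟨k, hk⟩ := h1 r
    rw [hg', ← fld_pow] at hk
    refine eq_one_of_inner hK (g := k⁻¹ * g') ?_
    rw [map_mul, map_inv, hk, inv_mul_cancel_left]
  refine ⟨g, S2127.fld τ (3 ^ m), rfl, by rw [← fld_pow, hτ, fld_one], ?_, ?_, ?_⟩
  · intro n hn
    obtain ⟨x, hx, h1⟩ := exists_fixed hK hn
    exact ⟨x, hx, h1 τ⟩
  · intro h3 hr3
    obtain ⟨a, ha, h1⟩ := exists_unit hK h3 hr hr3 hτ
    refine ⟨Data.T c a, by rw [ReeTorus.orderOf_h D, ha], ?_⟩
    rw [F.onH]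
    congr 1
    exact Units.ext h1
  · intro _ hne
    have h1 : τ ≠ 1 := by
      rintro rfl
      exact hne fld_one
    obtain ⟨t, ht⟩ := exists_trace (three_eq_zero hK) h1
    refine ⟨Data.U K (3 ^ m) t 0 0, ?_⟩
    rw [F.onU, F.onU, D.U_mul, D.U_mul]
    exact orderOf_U hK D ht _ _

end Group

end Cfsg.Agent.H872.ReeAut

namespace Cfsg.Agent.H389.RSq

open Subgroup
open Cfsg.Agent.H389.JSq (Has)

universe u

variable {m : ℕ}

/-- a Ree group has an element of order 9 -/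
theorem IsRee.exists_nine {m : ℕ} {L : Type u} [Group L] [Finite L] (h : IsRee m L) : ∃ x : L, orderOf x = 9 := by
  obtain ⟨hm, K, _, _, hK, ⟨e⟩⟩ := h
  obtain ⟨x, hx, -⟩ := Cfsg.Agent.H872.ReeAut.exists_fixed hK (n := 9) (by simp)
  exact ⟨e.symm x, by rw [MulEquiv.orderOf_eq, hx]⟩

/-- **Automorphisms of Ree groups.** -/
theorem IsRee.aut {m : ℕ} {L : Type u} [Group L] [Finite L] (h : IsRee m L) (α : MulAut L) {r : ℕ} (hr : r.Prime)
    (hr2 : r ≠ 2) (hα : ∃ g : L, α ^ r = MulAut.conj g) :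
    ∃ (g : L) (τ : MulAut L), α = MulAut.conj g * τ ∧ τ ^ r = 1 ∧
      (∀ n ∈ ({2, 3, 7, 9} : Finset ℕ), ∃ x : L, orderOf x = n ∧ τ x = x) ∧
      (3 ∣ 2 * m + 1 → r ≠ 3 → ∃ x : L, orderOf x = 13 ∧ τ x = x) ∧
      (r = 3 → τ ≠ 1 → ∃ x : L, orderOf (x * τ x * τ (τ x)) = 9) := by
  obtain ⟨hm, K, _, _, hK, ⟨e⟩⟩ := h
  obtain ⟨g₀, hg₀⟩ := hα
  have hconj : ∀ k : L, MulAut.congr e (MulAut.conj k) = MulAut.conj (e k) := by
    intro k
    ext x : 1
    obtain ⟨y, rfl⟩ := e.surjective x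
    show e (k * e.symm (e y) * k⁻¹) = e k * e y * (e k)⁻¹
    rw [e.symm_apply_apply, map_mul, map_mul, map_inv]
  obtain ⟨g, τ, h1, h2, h3, h4, h5⟩ := Cfsg.Agent.H872.ReeAut.core hm hK (MulAut.congr e α) hr
    ⟨e g₀, by rw [← map_pow, hg₀, hconj]⟩
  obtain ⟨σ, rfl⟩ := (MulAut.congr e).surjective τ
  have hσ : ∀ x : L, MulAut.congr e σ (e x) = e (σ x) := by
    intro x
    show e (σ (e.symm (e x))) = e (σ x)
    rw [e.symm_apply_apply]
  refine ⟨e.symm g, σ, ?_, ?_, ?_, ?_, ?_⟩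
  · apply (MulAut.congr e).injective
    rw [map_mul, hconj, e.apply_symm_apply, h1]
  · apply (MulAut.congr e).injective
    rw [map_pow, h2, map_one]
  · intro n hn
    obtain ⟨x, hx, h6⟩ := h3 n hn
    obtain ⟨y, rfl⟩ := e.surjective x
    rw [hσ] at h6
    exact ⟨y, by rw [← hx, MulEquiv.orderOf_eq], e.injective h6⟩
  · intro h6 h7
    obtain ⟨x, hx, h8⟩ := h4 h6 h7
    obtain ⟨y, rfl⟩ := e.surjective x
    rw [hσ] at h8
    exact ⟨y, by rw [← hx, MulEquiv.orderOf_eq], e.injective h8⟩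
  · intro h6 h7
    obtain ⟨x, hx⟩ := h5 h6 (fun h8 => h7 ((MulAut.congr e).injective (by rw [h8, map_one])))
    obtain ⟨y, rfl⟩ := e.surjective x
    rw [hσ, hσ, ← map_mul, ← map_mul, MulEquiv.orderOf_eq] at hx
    exact ⟨y, hx⟩

end Cfsg.Agent.H389.RSq
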